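import Cfsg.Agent.H557.ToralTypes
import Cfsg.Agent.ChevalleyStructure.HDiag
import Cfsg.Agent.ChevalleyStructure.Columns

/-!
# The ranks of `t - 1` on the Lie algebra for the involutions `t` of `E8(q)`, `q` odd (helper351)

Involutions are toral (helper557: `toral_E8`); a toral involution acts on the root vectors by a nonzero sign character
of the root lattice, which takes the value `-1` on `112` or `128` roots.
-/

set_option autoImplicit false

namespace Cfsg.Agent.H351.SpSix.RankE8

open Cfsg Cfsg.Lie Matrix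
open Cfsg.Agent.ChevalleyStructure Cfsg.Agent.ChevalleyStructure.HDiag Cfsg.Agent.ChevalleyStructure.Columns

/-- the roots with odd coefficient at the `j`-th simple root -/
def Ms : List ℕ := [107839786668602559172822053798754911021733838661528612749448004485120,
  1753097492003848511995418724622658205829124388897766921341740243671335039,
  20704396542038367424733491914620092534419798955723322403167678861672256,
  51844003768978489081421662274780806913344498170800302062942232843960800,
  1658049777132531129987109508961341997330299938279832027942784460591610895,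
  220094909834748922245869575695743920516767951287799003329953312530483192,
  1325461430136442926808816863125755873400476431580858341075940120903299075,
  883314821845904021463758718625403431782944244673388587339954784337649662]

/-- the roots on which the character `n` is `-1`, first `k` simple roots only -/
def Xr (n : ℕ) : ℕ → ℕ
  | 0 => 0
  | k + 1 => Nat.xor (Xr n k) (if n.testBit k then Ms.getD k 0 else 0)

/-- the number of the bits below `N` -/
def cnt (X : ℕ) : ℕ → ℕ
  | 0 => 0
  | k + 1 => cnt X k + (X.testBit k).toNat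

theorem cnt_eq (X N : ℕ) : cnt X N = ((Finset.range N).filter fun s => X.testBit s = true).card := by
  induction N with
  | zero => rfl
  | succ N ih =>
    rw [cnt, ih, Finset.range_add_one, Finset.filter_insert]
    by_cases h : X.testBit N = true
    · rw [if_pos h, Finset.card_insert_of_notMem (by simp), h]; rfl
    · rw [if_neg h, Bool.eq_false_iff.2 h]; rfl

theorem tab_bits : ∀ j < 8, ∀ s < 240, (Ms.getD j 0).testBit s = decide (cor chevE8 s j % 2 ≠ 0) := by
  decide +kernel

theorem tab_linA : ∀ i < 8, ∀ s < 80, car chevE8 i s =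
    ∑ j ∈ Finset.range 8, cor chevE8 s j * car chevE8 i (chevE8.simple j) := by
  decide +kernel

theorem tab_linB : ∀ i < 8, ∀ s < 80, car chevE8 i (s + 80) =
    ∑ j ∈ Finset.range 8, cor chevE8 (s + 80) j * car chevE8 i (chevE8.simple j) := by
  decide +kernel

theorem tab_linC : ∀ i < 8, ∀ s < 80, car chevE8 i (s + 160) =
    ∑ j ∈ Finset.range 8, cor chevE8 (s + 160) j * car chevE8 i (chevE8.simple j) := by
  decide +kernel

theorem tab_lin : ∀ i < 8, ∀ s < 240, car chevE8 i s =
    ∑ j ∈ Finset.range 8, cor chevE8 s j * car chevE8 i (chevE8.simple j) := by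
  intro i hi s hs
  rcases Nat.lt_or_ge s 80 with h | h
  · exact tab_linA i hi s h
  · rcases Nat.lt_or_ge s 160 with h1 | h1
    · have h2 := tab_linB i hi (s - 80) (by omega)
      rwa [Nat.sub_add_cancel h] at h2
    · have h2 := tab_linC i hi (s - 160) (by omega)
      rwa [Nat.sub_add_cancel h1] at h2

theorem cartan_eq (D : ChevalleyDatum) (i s : ℕ) : D.cartan i s = car D i s := rfl

theorem tab_simple : ∀ j < 8, chevE8.simple j < 240 := by decide +kernel

theorem tab_cnt : ∀ n < 256, n ≠ 0 → cnt (Xr n 8) 240 = 112 ∨ cnt (Xr n 8) 240 = 128 := by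
  decide +kernel

/-! ### the diagonal subgroup -/

universe u

variable {F : Type u} [Field F]

/-- the elements of the diagonal subgroup -/
theorem exists_dmat' (D : ChevalleyDatum)
    (hD : D ∈ [chevG2, chevB2, chevD4, chevF4, chevE6, chevE7, chevE8])
    (g : GL D.Idx F) (hg : g ∈ D.diagonalSubgroup F) :
    ∃ c : ℕ → Fˣ, (g : Matrix D.Idx D.Idx F) =
      dmat D F (fun s => ((∏ i ∈ Finset.range D.rank, c i ^ D.cartan i s : Fˣ) : F)) := by
  obtain ⟨c, hc, hw⟩ := Cfsg.Agent.S1034.result D hD g hg
  classical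
  let c' : ℕ → Fˣ := fun i => if h : c i = 0 then 1 else Units.mk0 (c i) h
  have hc' : ∀ i < D.rank, (c' i : F) = c i := by
    intro i hi
    have h : ¬ c i = 0 := hc i hi
    show ((if h : c i = 0 then 1 else Units.mk0 (c i) h : Fˣ) : F) = c i
    rw [dif_neg h]; rfl
  refine ⟨c', ?_⟩
  have key : ∀ n ≤ D.rank, 
      D.wordMat F ((List.range n).flatMap fun i => D.hWord (D.simple i) (c i)) =
        dmat D F (fun s => ((∏ i ∈ Finset.range n, c' i ^ D.cartan i s : Fˣ) : F)) := by
    intro n
    induction n with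
    | zero =>
      intro _
      simp only [Finset.range_zero, Finset.prod_empty, Units.val_one]
      rw [dmat_one]
      rfl
    | succ n ih =>
      intro hn
      rw [List.range_succ, List.flatMap_append, wordMat_append, ih (by omega), List.flatMap_singleton]
      have h2 : D.wordMat F (D.hWord (D.simple n) (c n)) = dmat D F (fun s => c n ^ (D.cartan n s)) :=
        Cfsg.Agent.S1033.result D hD n (by omega) (c n) (hc n (by omega))
      rw [h2, dmat_mul]
      congr 1
      funext s
      rw [Finset.prod_range_succ, Units.val_mul, Units.val_zpow_eq_zpow_val, hc' n (by omega)]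
  rw [hw, key D.rank le_rfl]

theorem prod_zpow_sum {G ι : Type*} [CommGroup G] (a : G) (S : Finset ι) (f : ι → ℤ) :
    ∏ i ∈ S, a ^ f i = a ^ ∑ i ∈ S, f i := by
  classical
  induction S using Finset.induction_on with
  | empty => simp
  | insert i S hi ih => rw [Finset.prod_insert hi, Finset.sum_insert hi, ih, _root_.zpow_add]

/-- the character of a root from the characters of the simple roots -/
theorem char_eq {D : ChevalleyDatum} (c : ℕ → Fˣ) {s : ℕ}
    (hlin : ∀ i < 8, car D i s = ∑ j ∈ Finset.range 8, cor D s j * car D i (D.simple j)) :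
    ∏ i ∈ Finset.range 8, c i ^ D.cartan i s =
      ∏ j ∈ Finset.range 8, (∏ i ∈ Finset.range 8, c i ^ D.cartan i (D.simple j)) ^ cor D s j := by
  have h1 : ∀ j, (∏ i ∈ Finset.range 8, c i ^ D.cartan i (D.simple j)) ^ cor D s j =
      ∏ i ∈ Finset.range 8, c i ^ (cor D s j * car D i (D.simple j)) := by
    intro j
    rw [← Finset.prod_zpow]
    refine Finset.prod_congr rfl fun i _ => ?_
    rw [← _root_.zpow_mul, mul_comm, cartan_eq]
  simp only [h1]
  rw [Finset.prod_comm]
  refine Finset.prod_congr rfl fun i hi => ?_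
  rw [prod_zpow_sum, cartan_eq, hlin i (Finset.mem_range.1 hi)]

/-- the sign of a root -/
theorem sign_eq (n : ℕ) {s : ℕ} (hs : s < 240) : ∀ k ≤ 8,
    ∏ j ∈ Finset.range k, (if n.testBit j then (-1 : Fˣ) else 1) ^ cor chevE8 s j =
      if (Xr n k).testBit s then -1 else 1 := by
  intro k
  induction k with
  | zero => intro _; simp [Xr]
  | succ k ih =>
    intro hk
    rw [Finset.prod_range_succ, ih (by omega)]
    have hX : (Xr n (k + 1)).testBit s = ((Xr n k).testBit s ^^ (n.testBit k && decide (cor chevE8 s k % 2 ≠ 0))) := by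
      rw [← tab_bits k (by omega) s hs]
      show (Xr n k ^^^ (if n.testBit k then Ms.getD k 0 else 0)).testBit s = _
      rw [Nat.testBit_xor]
      congr 1
      cases n.testBit k
      · simp
      · simp
    rw [hX]
    have h3 : (if n.testBit k then (-1 : Fˣ) else 1) ^ cor chevE8 s k =
        if (n.testBit k && decide (cor chevE8 s k % 2 ≠ 0)) then -1 else 1 := by
      cases n.testBit k
      · simp
      · simp only [Bool.true_and, if_true]
        rcases Int.emod_two_eq_zero_or_one (cor chevE8 s k) with h | h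
        · rw [(Int.even_iff.2 h).neg_one_zpow]; simp [h]
        · rw [(Int.odd_iff.2 h).neg_one_zpow]; simp [h]
    rw [h3]
    cases (Xr n k).testBit s <;> cases (n.testBit k && decide (cor chevE8 s k % 2 ≠ 0)) <;> simp

theorem exists_bits (b : ℕ → Fˣ) (hb : ∀ j < 8, b j * b j = 1) : ∃ n < 256, ∀ j < 8, b j = if n.testBit j then -1 else 1 := by
  classical
  refine ⟨Nat.ofBits fun k : Fin 8 => decide (b k = -1), Nat.ofBits_lt_two_pow _, fun j hj => ?_⟩
  rw [Nat.testBit_ofBits_lt _ _ hj]
  have h2 : (b j : F) * b j = 1 := by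
    have := congrArg (Units.val) (hb j hj)
    rwa [Units.val_mul, Units.val_one] at this
  rcases mul_self_eq_one_iff.1 h2 with h3 | h3
  · have h4 : b j = 1 := Units.ext h3
    by_cases h5 : b j = -1
    · simp [h5]
    · rw [h4] at h5 ⊢
      simp [h5]
  · have h4 : b j = -1 := Units.ext (by rw [h3, Units.val_neg, Units.val_one])
    simp [h4]

/-- **the rank of `t - 1` for a toral involution** -/
theorem rank_diag (h2 : (2 : F) ≠ 0) {t : GL chevE8.Idx F} (ht : t ∈ chevE8.diagonalSubgroup F) (htt : t * t = 1)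
    (h1 : t ≠ 1) : ((t : Matrix chevE8.Idx chevE8.Idx F) - 1).rank = 112 ∨
      ((t : Matrix chevE8.Idx chevE8.Idx F) - 1).rank = 128 := by
  classical
  obtain ⟨c, hc⟩ := exists_dmat' chevE8 (by simp) t ht
  let χ : ℕ → Fˣ := fun s => ∏ i ∈ Finset.range 8, c i ^ chevE8.cartan i s
  have hc' : (t : Matrix chevE8.Idx chevE8.Idx F) = dmat chevE8 F (fun s => (χ s.val : F)) := hc
  have hsq : ∀ s < 240, χ s * χ s = 1 := by
    intro s hs
    have h3 := congrArg (fun g : GL chevE8.Idx F => (g : Matrix chevE8.Idx chevE8.Idx F)) htt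
    simp only [Units.val_mul, Units.val_one, hc'] at h3
    rw [dmat_mul] at h3
    have h4 := congrFun (congrFun h3 (Sum.inr ⟨s, hs⟩)) (Sum.inr ⟨s, hs⟩)
    rw [dmat_def, Matrix.diagonal_apply_eq, Matrix.one_apply_eq] at h4
    apply Units.ext
    rw [Units.val_mul, Units.val_one]
    exact h4
  obtain ⟨n, hn, hbits⟩ := exists_bits (fun j => χ (chevE8.simple j)) (fun j hj => hsq _ (tab_simple j hj))
  have hχ : ∀ s < 240, χ s = if (Xr n 8).testBit s then -1 else 1 := by
    intro s hs
    rw [← sign_eq n hs 8 le_rfl]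
    show ∏ i ∈ Finset.range 8, c i ^ chevE8.cartan i s = _
    rw [char_eq c (fun i hi => tab_lin i hi s hs)]
    refine Finset.prod_congr rfl fun j hj => ?_
    have := hbits j (Finset.mem_range.1 hj)
    rw [← this]
  have hn0 : n ≠ 0 := by
    rintro rfl
    apply h1
    apply Units.ext
    rw [hc', Units.val_one, ← dmat_one]
    congr 1
    funext s
    rw [hχ s.val s.isLt]
    have : Xr 0 8 = 0 := by decide +kernel
    rw [this]
    simp
  have hneg : (-1 : F) ≠ 1 := by
    intro h
    apply h2
    have h3 : (2 : F) = 1 - (-1) := by ring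
    rw [h3, h, sub_self]
  have hmat : (t : Matrix chevE8.Idx chevE8.Idx F) - 1 =
      Matrix.diagonal (Sum.elim (fun _ => (0 : F)) (fun s : Fin chevE8.nroots => if (Xr n 8).testBit s.val then -2 else 0)) := by
    rw [hc', dmat_def, ← Matrix.diagonal_one, Matrix.diagonal_sub]
    congr 1
    funext i
    rcases i with i | s
    · simp
    · show (χ s.val : F) - 1 = _
      rw [hχ s.val s.isLt]
      show _ = if (Xr n 8).testBit s.val then (-2 : F) else 0
      cases (Xr n 8).testBit s.val
      · simp
      · simp only [if_true, Units.val_neg, Units.val_one]; ring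
  have hcard : ((t : Matrix chevE8.Idx chevE8.Idx F) - 1).rank = cnt (Xr n 8) 240 := by
    rw [hmat, Matrix.rank_diagonal, cnt_eq, Fintype.card_subtype]
    symm
    refine Finset.card_bij (fun s hs => Sum.inr ⟨s, Finset.mem_range.1 (Finset.mem_filter.1 hs).1⟩) ?_ ?_ ?_
    · intro s hs
      rw [Finset.mem_filter]
      refine ⟨Finset.mem_univ _, ?_⟩
      show (if (Xr n 8).testBit s then (-2 : F) else 0) ≠ 0
      rw [if_pos (Finset.mem_filter.1 hs).2]
      exact neg_ne_zero.2 h2
    · intro s hs s' hs' h
      exact congrArg Fin.val (Sum.inr.inj h)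
    · intro i hi
      rw [Finset.mem_filter] at hi
      rcases i with i | s
      · exact absurd rfl hi.2
      · have h3 : (if (Xr n 8).testBit s.val then (-2 : F) else 0) ≠ 0 := hi.2
        refine ⟨s.val, Finset.mem_filter.2 ⟨Finset.mem_range.2 s.isLt, ?_⟩, rfl⟩
        by_contra h4
        exact h3 (if_neg h4)
  rw [hcard]
  exact tab_cnt n hn hn0

/-- **the rank of `t - 1` for an involution of `E8(q)`, `q` odd** -/
theorem rank_inv [Fintype F] (ho : Odd (Fintype.card F)) (h2 : (2 : F) ≠ 0) {t : ↥(chevE8.group F)} (ht : t * t = 1)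
    (h1 : t ≠ 1) : (((t : GL chevE8.Idx F) : Matrix chevE8.Idx chevE8.Idx F) - 1).rank = 112 ∨
      (((t : GL chevE8.Idx F) : Matrix chevE8.Idx chevE8.Idx F) - 1).rank = 128 := by
  obtain ⟨g, hg⟩ := Cfsg.Agent.H557.ToralTypes.toral_E8 ho ht
  have hs : ((g * t * g⁻¹ : ↥(chevE8.group F)) : GL chevE8.Idx F) ∈ chevE8.diagonalSubgroup F :=
    Subgroup.mem_subgroupOf.1 hg
  have hss : (g * t * g⁻¹) * (g * t * g⁻¹) = 1 := by
    rw [show (g * t * g⁻¹) * (g * t * g⁻¹) = g * (t * t) * g⁻¹ by group, ht, mul_one, mul_inv_cancel]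
  have hne : ((g * t * g⁻¹ : ↥(chevE8.group F)) : GL chevE8.Idx F) ≠ 1 := by
    intro h
    apply h1
    have h3 : g * t * g⁻¹ = 1 := Subtype.ext h
    have h4 : t = g⁻¹ * (g * t * g⁻¹) * g := by group
    rw [h4, h3, mul_one, inv_mul_cancel]
  have h3 := rank_diag h2 hs (congrArg Subtype.val hss) hne
  have h4 : (((g * t * g⁻¹ : ↥(chevE8.group F)) : GL chevE8.Idx F) : Matrix chevE8.Idx chevE8.Idx F) - 1 =
      ((g : GL chevE8.Idx F) : Matrix chevE8.Idx chevE8.Idx F) *
        ((((t : GL chevE8.Idx F) : Matrix chevE8.Idx chevE8.Idx F) - 1) *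
          (((g : GL chevE8.Idx F)⁻¹ : GL chevE8.Idx F) : Matrix chevE8.Idx chevE8.Idx F)) := by
    rw [Matrix.sub_mul, Matrix.mul_sub, one_mul, ← Units.val_mul (g : GL chevE8.Idx F), mul_inv_cancel, Units.val_one,
      ← Units.val_mul, ← Units.val_mul, ← mul_assoc]
    rfl
  have hd : ∀ x : GL chevE8.Idx F, IsUnit (x : Matrix chevE8.Idx chevE8.Idx F).det := fun x =>
    (Matrix.isUnit_iff_isUnit_det _).1 x.isUnit
  have h5 : ((((g * t * g⁻¹ : ↥(chevE8.group F)) : GL chevE8.Idx F) : Matrix chevE8.Idx chevE8.Idx F) - 1).rank =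
      (((t : GL chevE8.Idx F) : Matrix chevE8.Idx chevE8.Idx F) - 1).rank := by
    rw [h4, Matrix.rank_mul_eq_right_of_isUnit_det _ _ (hd _), Matrix.rank_mul_eq_left_of_isUnit_det _ _ (hd _)]
  rwa [h5] at h3

end Cfsg.Agent.H351.SpSix.RankE8
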