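import Cfsg.Agent.H351.SpSix.Ideal
import Cfsg.Agent.ChevalleyStructure.Elts

/-!
# The natural representation of a subgroup of `GL` (helper351)
-/

set_option autoImplicit false

namespace Cfsg.Agent.H351.SpSix

open Cfsg Cfsg.Lie Matrix

/-- the natural representation -/
def rep {K : Type*} [Group K] {F : Type*} [Field F] {ι : Type*} [Fintype ι] [DecidableEq ι] (φ : K →* GL ι F) :
    K →* Module.End F (ι → F) where
  toFun k := Matrix.mulVecLin (φ k : Matrix ι ι F)
  map_one' := by
    rw [map_one, Units.val_one, Matrix.mulVecLin_one]; rfl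
  map_mul' a b := by
    rw [map_mul, Units.val_mul, Matrix.mulVecLin_mul]; rfl

section

variable {K : Type*} [Group K] {F : Type*} [Field F] {ι : Type*} [Fintype ι] [DecidableEq ι] (φ : K →* GL ι F)

theorem rep_apply (k : K) (w : ι → F) : rep φ k w = (φ k : Matrix ι ι F) *ᵥ w := rfl

theorem rep_ne_one (hφ : Function.Injective φ) {k : K} (hk : k ≠ 1) : rep φ k ≠ 1 := by
  intro h
  apply hk
  apply hφ
  rw [map_one]
  apply Units.ext
  rw [Units.val_one]
  apply Matrix.ext_of_mulVec_single
  intro i
  rw [Matrix.one_mulVec]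
  exact LinearMap.congr_fun h (Pi.single i 1)

end

open Cfsg.Agent.ChevalleyStructure.Elts in
/-- subgroups generated by words lie in the Chevalley group -/
theorem genSubgroup_le {D : ChevalleyDatum} {F : Type*} [Field F] (hD : InList D) (S : Set (List (ℕ × F))) :
    D.genSubgroup F S ≤ D.group F := by
  unfold ChevalleyDatum.genSubgroup
  rw [Subgroup.closure_le]
  rintro g ⟨w, -, hg⟩
  have h : g = wordG hD w := Units.ext (by rw [hg, coe_wordG])
  rw [h]
  exact wordG_mem_group hD w

theorem two_ne_zero_of_odd {F : Type*} [Field F] [Fintype F] (h : Odd (Fintype.card F)) : (2 : F) ≠ 0 := by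
  intro h2
  have h1 : ((Fintype.card F : ℕ) : F) = 0 := Nat.cast_card_eq_zero F
  obtain ⟨k, hk⟩ := h
  rw [hk, Nat.cast_add, Nat.cast_mul, Nat.cast_two, h2, zero_mul, zero_add, Nat.cast_one] at h1
  exact one_ne_zero h1

end Cfsg.Agent.H351.SpSix
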