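import Mathlib

/-!
# Dimensions in a module decomposed by projections

`P i` projections onto the submodules `U i` with sum `1`; the submodule of all `w` with `P i w = 0` for `i ∉ S` has
dimension the sum of the dimensions of the `U i`, `i ∈ S`. (helper351)
-/

set_option autoImplicit false

namespace Cfsg.Agent.H351.SpSix.Proj

variable {F : Type*} [Field F] {W : Type*} [AddCommGroup W] [Module F W] {ι : Type*} [Fintype ι]

/-- a decomposition by projections -/
structure Sys (U : ι → Submodule F W) (P : ι → W →ₗ[F] W) : Prop where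
  mem : ∀ i w, P i w ∈ U i
  sum : ∀ w, ∑ i, P i w = w
  self : ∀ i, ∀ w ∈ U i, P i w = w
  ne : ∀ i j, i ≠ j → ∀ w ∈ U j, P i w = 0

variable {U : ι → Submodule F W} {P : ι → W →ₗ[F] W}

theorem Sys.apply_sum (h : Sys U P) (f : ι → W) (hf : ∀ i, f i ∈ U i) (i : ι) : P i (∑ j, f j) = f i := by
  rw [map_sum, Finset.sum_eq_single_of_mem i (Finset.mem_univ i) fun j _ hj => h.ne i j (Ne.symm hj) _ (hf j)]
  exact h.self i _ (hf i)

/-- the linear map on the part over `S` -/
noncomputable def Sys.map (h : Sys U P) (S : ι → Prop) (X : Submodule F W) :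
    X →ₗ[F] (∀ i : {i : ι // S i}, U i.1) :=
  LinearMap.pi fun i : {i : ι // S i} => ((P i.1).codRestrict (U i.1) (h.mem i.1)).comp X.subtype

theorem Sys.finrank [FiniteDimensional F W] (h : Sys U P) (S : ι → Prop) [DecidablePred S] {X : Submodule F W}
    (hX : ∀ w, w ∈ X ↔ ∀ i, ¬ S i → P i w = 0) :
    Module.finrank F X = ∑ i : {i : ι // S i}, Module.finrank F (U i.1) := by
  have hb : Function.Bijective (h.map S X) := by
    constructor
    · intro a b hab
      apply Subtype.ext
      rw [← h.sum a.1, ← h.sum b.1]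
      refine Finset.sum_congr rfl fun i _ => ?_
      by_cases hi : S i
      · exact congrArg Subtype.val (congrFun hab ⟨i, hi⟩)
      · rw [(hX a.1).1 a.2 i hi, (hX b.1).1 b.2 i hi]
    · intro f
      let f' : ι → W := fun i => if hi : S i then (f ⟨i, hi⟩).1 else 0
      have hf' : ∀ i, f' i ∈ U i := by
        intro i
        by_cases hi : S i
        · have : f' i = (f ⟨i, hi⟩).1 := dif_pos hi
          rw [this]; exact (f ⟨i, hi⟩).2
        · have : f' i = 0 := dif_neg hi
          rw [this]; exact Submodule.zero_mem _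
      have hfx : ∑ i, f' i ∈ X := by
        rw [hX]
        intro i hi
        rw [h.apply_sum f' hf' i]
        exact dif_neg hi
      refine ⟨⟨∑ i, f' i, hfx⟩, funext fun i => Subtype.ext ?_⟩
      have h1 := h.apply_sum f' hf' i.1
      have h3 : f' i.1 = (f i).1 := dif_pos i.2
      exact h1.trans h3
  rw [(LinearEquiv.ofBijective _ hb).finrank_eq, Module.finrank_pi_fintype]

theorem Sys.finrank_top [FiniteDimensional F W] (h : Sys U P) :
    Module.finrank F W = ∑ i : ι, Module.finrank F (U i) := by
  have h1 := h.finrank (fun _ => True) (X := ⊤) (fun w => ⟨fun _ i hi => absurd trivial hi, fun _ => Submodule.mem_top⟩)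
  have h3 : Module.finrank F W = Module.finrank F (⊤ : Submodule F W) := (_root_.finrank_top F W).symm
  rw [h3, h1]
  exact Fintype.sum_equiv (Equiv.subtypeUnivEquiv fun _ => trivial) _ _ fun _ => rfl

theorem sum_eq_of_const {κ : Type*} [Fintype κ] (f : κ → ℕ) (i₀ : κ) (m : ℕ) (h : ∀ i, i ≠ i₀ → f i = m) :
    ∑ i, f i = f i₀ + (Fintype.card κ - 1) * m := by
  classical
  rw [← Finset.add_sum_erase _ _ (Finset.mem_univ i₀), Finset.sum_congr rfl (g := fun _ => m)
    (fun i hi => h i (Finset.ne_of_mem_erase hi)), Finset.sum_const, Finset.card_erase_of_mem (Finset.mem_univ _),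
    Finset.card_univ, smul_eq_mul]

end Cfsg.Agent.H351.SpSix.Proj
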