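import Cfsg.Agent.H351.SpSix.Rep
import Cfsg.Agent.H351.SpSix.IdealE
import Cfsg.Prelude.Def_LieChev
import Cfsg.Prelude.Def_LieTwisted

/-!
# No `Sit` in the groups of type `E6`, `²E6` in odd characteristic (helper351, for S3405)

Weights of `A = 2⁶` on the Lie algebra of dimension `78`: the `63` nonzero weights have the same multiplicity `m`, so
`m = 1` and the sum of the nonzero weight spaces is an ideal, invariant under the Chevalley group, with `A` acting
trivially on the quotient: this contradicts the simplicity of `E6(F)`.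
-/

set_option autoImplicit false

namespace Cfsg.Agent.H351.SpSix.RowE6

open Cfsg Cfsg.Lie Matrix
open Cfsg.Agent.ChevalleyStructure Cfsg.Agent.ChevalleyStructure.LieAbs Cfsg.Agent.ChevalleyStructure.JacMain
  Cfsg.Agent.ChevalleyStructure.JacBridge Cfsg.Agent.ChevalleyStructure.JacTab Cfsg.Agent.ChevalleyStructure.LieAut
open Cfsg.Agent.H336.SpSix

theorem anti_int (v w : chevE6.Idx → ℤ) : adv (adA chevE6) v *ᵥ w = - (adv (adA chevE6) w *ᵥ v) := by
  have hs := fun (r : ℕ) (hr : r < chevE6.nroots) => (Good.goodAt_of_mem chevE6 (by simp) r hr).sorted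
  have B := bridge_sound chevE6 JacDataE6.Rs JacDataE6.Hs JacE6.bridge_ok hs
  have G := good_of_bridge B JacE6.anti_ok
  rw [← AX_eq_adA B (fun r hr => (Good.goodAt_of_mem chevE6 (by simp) r hr).neg_ne) hs]
  exact G.adv_antisymm v w

theorem anti_entry (x y z : chevE6.Idx) : adA chevE6 x z y = - adA chevE6 y z x := by
  have h := congrFun (anti_int (Pi.single x 1) (Pi.single y 1)) z
  rw [adv_single_one, adv_single_one, Pi.neg_apply, Matrix.mulVec_single_one, Matrix.mulVec_single_one,
    Matrix.col_apply, Matrix.col_apply] at h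
  exact h

/-- the product is alternating -/
theorem adv_self {F : Type*} [Field F] (h2 : (2 : F) ≠ 0) (v : chevE6.Idx → F) :
    adv (adR chevE6 F) v *ᵥ v = 0 := by
  funext z
  rw [Pi.zero_apply]
  have h1 : (adv (adR chevE6 F) v *ᵥ v) z = ∑ x, ∑ y, v x * v y * adR chevE6 F x z y := by
    unfold adv
    rw [Matrix.sum_mulVec, Finset.sum_apply]
    refine Finset.sum_congr rfl fun x _ => ?_
    rw [Matrix.smul_mulVec, Pi.smul_apply, Matrix.mulVec, dotProduct, smul_eq_mul, Finset.mul_sum]
    exact Finset.sum_congr rfl fun y _ => by ring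
  have h3 : (∑ x, ∑ y, v x * v y * adR chevE6 F x z y) = - ∑ x, ∑ y, v x * v y * adR chevE6 F x z y := by
    conv_lhs => rw [Finset.sum_comm]
    rw [← Finset.sum_neg_distrib]
    refine Finset.sum_congr rfl fun x _ => ?_
    rw [← Finset.sum_neg_distrib]
    refine Finset.sum_congr rfl fun y _ => ?_
    have h4 : adR chevE6 F y z x = - adR chevE6 F x z y := by
      rw [adR_def, adR_def, Matrix.map_apply, Matrix.map_apply, anti_entry y x z, map_neg]
    rw [h4]; ring
  rw [h1]
  have h4 : (2 : F) * ∑ x, ∑ y, v x * v y * adR chevE6 F x z y = 0 := by linear_combination h3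
  exact (mul_eq_zero.1 h4).resolve_left h2

/-- the product of the Lie algebra as a bilinear map -/
noncomputable def br (F : Type*) [Field F] : (chevE6.Idx → F) →ₗ[F] (chevE6.Idx → F) →ₗ[F] (chevE6.Idx → F) :=
  LinearMap.mk₂ F (fun x y => adv (adR chevE6 F) x *ᵥ y)
    (fun x x' y => by rw [adv_add, Matrix.add_mulVec])
    (fun c x y => by rw [adv_smul, Matrix.smul_mulVec])
    (fun x y y' => Matrix.mulVec_add _ _ _)
    (fun c x y => Matrix.mulVec_smul _ _ _)

theorem br_apply {F : Type*} [Field F] (x y : chevE6.Idx → F) : br F x y = adv (adR chevE6 F) x *ᵥ y := rfl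

theorem finrank_L (F : Type*) [Field F] : Module.finrank F (chevE6.Idx → F) = 78 := by
  rw [Module.finrank_fintype_fun_eq_card]
  show Fintype.card (Fin 6 ⊕ Fin 72) = 78
  rw [Fintype.card_sum, Fintype.card_fin, Fintype.card_fin]

universe u

set_option maxRecDepth 20000 in
/-- **no `Sit` in a subgroup of `E6(F)`, `2 ≠ 0`** -/
theorem main {K : Type*} [Group K] {th : V → K} {O K0 : Subgroup K} (h : Sit th O K0) {F : Type u} [Field F]
    (h2 : (2 : F) ≠ 0) (φ : K →* GL chevE6.Idx F) (hφ : Function.Injective φ) (hr : ∀ k, φ k ∈ chevE6.group F) :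
    False := by
  obtain ⟨u, hu⟩ : ∃ u : V, u ≠ 0 := ⟨Pi.single (Sum.inl 0) 1, fun h => by
    have := congrFun h (Sum.inl 0)
    rw [Pi.single_eq_same] at this
    exact absurd this (by decide)⟩
  have hne : th u ≠ 1 := fun hh => hu ((h.eq_one_iff u).1 hh)
  have hdim := finrank_eq (ρ := rep φ) h h2 hu
  have hpos := finrank_pos (ρ := rep φ) h h2 (rep_ne_one φ hφ hne) hu
  rw [finrank_L] at hdim
  have h1 : Module.finrank F (wt (rep φ) th u) = 1 := by omega
  have h0 : 0 < Module.finrank F (wt (rep φ) th 0) := by omega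
  have hB : ∀ v x y, rep φ (th v) (br F x y) = br F (rep φ (th v) x) (rep φ (th v) y) := by
    intro v x y
    rw [rep_apply, rep_apply, rep_apply, br_apply, br_apply, Matrix.mulVec_mulVec, Matrix.mulVec_mulVec,
      JacAll.group_mul_adv chevE6 (by simp) F (φ (th v)) (hr _)]
  have hI : ∀ x, ∀ w ∈ LinearMap.ker (pr (rep φ) th 0), adv (adR chevE6 F) x *ᵥ w ∈ LinearMap.ker (pr (rep φ) th 0) := by
    intro x w hw
    rw [LinearMap.mem_ker] at hw ⊢
    have hid := ideal (ρ := rep φ) (W := chevE6.Idx → F) h h2 (br F) hB (fun x => by rw [br_apply, adv_self h2 x])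
      (fun u' hu' => (finrank_wt_eq (ρ := rep φ) h hu' hu).trans h1) x (w := w) hw
    rw [br_apply] at hid
    exact hid
  have hQ : ∀ w, (φ (th u) : Matrix chevE6.Idx chevE6.Idx F) *ᵥ w - w ∈ LinearMap.ker (pr (rep φ) th 0) := by
    intro w
    rw [LinearMap.mem_ker]
    have h3 := pr_zero_th (ρ := rep φ) h u w
    rw [rep_apply] at h3
    exact h3
  have htop := IdealE.eq_top IdealE.lac_E6 h2 hI (hr (th u)) (fun hh => hne (hφ (by rw [hh, map_one]))) hQ
  obtain ⟨w, hw⟩ := exists_pr_zero (ρ := rep φ) h2 h0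
  apply hw
  have : w ∈ LinearMap.ker (pr (rep φ) th 0) := by rw [htop]; exact Submodule.mem_top
  exact LinearMap.mem_ker.1 this

/-- **row `E6`** -/
theorem row_E6 {K : Type*} [Group K] {th : V → K} {O K0 : Subgroup K} (h : Sit th O K0) {F : Type u} [Field F]
    [Fintype F] (ho : Odd (Fintype.card F)) (e : K ≃* chevE6.group F) : False :=
  main h (two_ne_zero_of_odd ho) ((chevE6.group F).subtype.comp e.toMonoidHom)
    (fun _ _ hab => e.injective (Subtype.ext hab)) fun k => (e k).2

/-- **row `²E6`** -/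
theorem row_2E6 {K : Type*} [Group K] {th : V → K} {O K0 : Subgroup K} (h : Sit th O K0) {F : Type u} [Field F]
    [Fintype F] (ho : Odd (Fintype.card F)) {q : ℕ} (e : K ≃* twistedE6 F q) : False :=
  main h (two_ne_zero_of_odd ho) ((twistedE6 F q).subtype.comp e.toMonoidHom)
    (fun _ _ hab => e.injective (Subtype.ext hab)) fun k => genSubgroup_le IdealE.lac_E6.inList _ (e k).2

end Cfsg.Agent.H351.SpSix.RowE6
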