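import Cfsg.Agent.H351.SpSix.Rep
import Cfsg.Agent.H351.SpSix.RankE8

/-!
# No `Sit` in `E8(q)`, `q` odd (helper351, for S3405)

Weights of `A = 2⁶` on the Lie algebra of dimension `248`: `248 = m₀ + 63 m` and the fixed space of an involution has
dimension `m₀ + 31 m = 248 - 112` or `248 - 128`, so `32 m = 112` or `128`: contradiction.
-/

set_option autoImplicit false

namespace Cfsg.Agent.H351.SpSix.RowE8

open Cfsg Cfsg.Lie Matrix
open Cfsg.Agent.H336.SpSix

universe u

theorem finrank_L (F : Type*) [Field F] : Module.finrank F (chevE8.Idx → F) = 248 := by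
  rw [Module.finrank_fintype_fun_eq_card]
  show Fintype.card (Fin 8 ⊕ Fin 240) = 248
  rw [Fintype.card_sum, Fintype.card_fin, Fintype.card_fin]

/-- the dimension of the fixed space from the rank -/
theorem finrank_fx_rank {K : Type*} [Group K] {th : V → K} {F : Type*} [Field F] {ι : Type*} [Fintype ι]
    [DecidableEq ι] (φ : K →* GL ι F) (v : V) :
    ((φ (th v) : Matrix ι ι F) - 1).rank + Module.finrank F (fx (rep φ) th v) = Module.finrank F (ι → F) := by
  have h1 : fx (rep φ) th v = LinearMap.ker (Matrix.mulVecLin ((φ (th v) : Matrix ι ι F) - 1)) := by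
    ext w
    rw [mem_fx, LinearMap.mem_ker, Matrix.mulVecLin_apply, Matrix.sub_mulVec, Matrix.one_mulVec, sub_eq_zero,
      rep_apply]
  rw [h1]
  exact LinearMap.finrank_range_add_finrank_ker _

/-- **row `E8`** -/
theorem row_E8 {K : Type*} [Group K] {th : V → K} {O K0 : Subgroup K} (h : Sit th O K0) {F : Type u} [Field F]
    [Fintype F] (ho : Odd (Fintype.card F)) (e : K ≃* chevE8.group F) : False := by
  have h2 := two_ne_zero_of_odd ho
  let φ : K →* GL chevE8.Idx F := (chevE8.group F).subtype.comp e.toMonoidHom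
  obtain ⟨u, hu⟩ : ∃ u : V, u ≠ 0 := ⟨Pi.single (Sum.inl 0) 1, fun h => by
    have := congrFun h (Sum.inl 0)
    rw [Pi.single_eq_same] at this
    exact absurd this (by decide)⟩
  have hne : th u ≠ 1 := fun hh => hu ((h.eq_one_iff u).1 hh)
  have hdim := finrank_eq (ρ := rep φ) h h2 hu
  have hfx := finrank_fx (ρ := rep φ) h h2 hu hu
  have hrk := finrank_fx_rank (th := th) φ u
  have hr := RankE8.rank_inv ho h2 (t := e (th u)) (by rw [← map_mul, h.sq, map_one])
    (fun hh => hne (e.injective (by rw [hh, map_one])))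
  have hr' : ((φ (th u) : Matrix chevE8.Idx chevE8.Idx F) - 1).rank = 112 ∨
      ((φ (th u) : Matrix chevE8.Idx chevE8.Idx F) - 1).rank = 128 := hr
  rw [finrank_L] at hdim hrk
  rcases hr' with hr' | hr' <;> rw [hr'] at hrk <;> omega

end Cfsg.Agent.H351.SpSix.RowE8
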