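import Cfsg.Agent.H351.SpSix.Wt

/-!
# The ideal of the nonzero weights

In an algebra `W` (product `B`, `B x x = 0`) on which the elementary abelian subgroup `A` of a `Sit` acts by
automorphisms, with one dimensional nonzero weight spaces: the sum `ker (pr 0)` of the nonzero weight spaces is an
ideal. (helper351)
-/

set_option autoImplicit false

namespace Cfsg.Agent.H351.SpSix

open Cfsg.Agent.H336.SpSix

variable {F : Type*} [Field F] {W : Type*} [AddCommGroup W] [Module F W]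
  {K : Type*} [Group K] {ρ : K →* Module.End F W} {th : V → K} {O K0 : Subgroup K} (h : Sit th O K0)

/-- products of weight vectors -/
theorem mul_mem_wt (B : W →ₗ[F] W →ₗ[F] W) (hB : ∀ v x y, ρ (th v) (B x y) = B (ρ (th v) x) (ρ (th v) y))
    {u u' : V} {x y : W} (hx : x ∈ wt ρ th u) (hy : y ∈ wt ρ th u') : B x y ∈ wt ρ th (u + u') := by
  intro v
  rw [hB, hx v, hy v, map_smul, map_smul, LinearMap.smul_apply, smul_smul, om_add_left, sgn_add, mul_comm]

theorem mul_eq_zero_of_one (B : W →ₗ[F] W →ₗ[F] W) (halt : ∀ x, B x x = 0) {U : Submodule F W}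
    (h1 : Module.finrank F U = 1) {x y : W} (hx : x ∈ U) (hy : y ∈ U) : B x y = 0 := by
  obtain ⟨v, -, hv⟩ := finrank_eq_one_iff'.1 h1
  obtain ⟨a, ha⟩ := hv ⟨x, hx⟩
  obtain ⟨b, hb⟩ := hv ⟨y, hy⟩
  have ha' : x = a • (v : W) := (congrArg Subtype.val ha).symm
  have hb' : y = b • (v : W) := (congrArg Subtype.val hb).symm
  rw [ha', hb', map_smul, map_smul, LinearMap.smul_apply, halt, smul_zero, smul_zero]

include h in
/-- **the sum of the nonzero weight spaces is an ideal** -/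
theorem ideal (h2 : (2 : F) ≠ 0) (B : W →ₗ[F] W →ₗ[F] W)
    (hB : ∀ v x y, ρ (th v) (B x y) = B (ρ (th v) x) (ρ (th v) y)) (halt : ∀ x, B x x = 0)
    (h1 : ∀ u, u ≠ 0 → Module.finrank F (wt ρ th u) = 1) (x : W) {w : W} (hw : pr ρ th 0 w = 0) :
    pr ρ th 0 (B x w) = 0 := by
  have h3 : B x w = ∑ u : V, ∑ u' : V, B (pr ρ th u x) (pr ρ th u' w) := by
    conv_lhs => rw [← sum_pr (ρ := ρ) h h2 x, ← sum_pr (ρ := ρ) h h2 w]
    rw [map_sum, map_sum, Finset.sum_congr rfl fun u _ => LinearMap.sum_apply _ _ _, Finset.sum_comm]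
  rw [h3, map_sum]
  refine Finset.sum_eq_zero fun u _ => ?_
  rw [map_sum]
  refine Finset.sum_eq_zero fun u' _ => ?_
  have h4 := mul_mem_wt B hB (pr_mem (ρ := ρ) h u x) (pr_mem (ρ := ρ) h u' w)
  by_cases huu : u = u'
  · subst huu
    by_cases hu : u = 0
    · subst hu
      rw [hw, map_zero, map_zero]
    · rw [mul_eq_zero_of_one B halt (h1 u hu) (pr_mem h u x) (pr_mem h u w), map_zero]
  · exact pr_ne h2 (fun hh => huu ((add_eq_zero_iff _ _).1 hh.symm)) h4

include h in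
theorem pr_zero_th (v : V) (w : W) : pr ρ th 0 (ρ (th v) w - w) = 0 := by
  rw [map_sub, sub_eq_zero, pr_apply, pr_apply]
  congr 1
  refine Fintype.sum_equiv (Equiv.addRight v) _ _ fun v' => ?_
  rw [Equiv.coe_addRight, om_zero_left, om_zero_left, h.add, map_mul, Module.End.mul_apply]

theorem exists_pr_zero [FiniteDimensional F W] (h2 : (2 : F) ≠ 0) (h0 : 0 < Module.finrank F (wt ρ th 0)) :
    ∃ w, pr ρ th 0 w ≠ 0 := by
  have : Nontrivial (wt ρ th 0) := Module.finrank_pos_iff.1 h0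
  obtain ⟨w, hw⟩ := exists_ne (0 : wt ρ th 0)
  refine ⟨w.1, ?_⟩
  rw [pr_self h2 w.2]
  exact fun hh => hw (Subtype.ext hh)

end Cfsg.Agent.H351.SpSix
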