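import Cfsg.Agent.H336.SpSix.Def
import Cfsg.Agent.H351.SpSix.Proj

/-!
# Weights of the elementary abelian subgroup of order 64 of a `Sit` on a module of odd characteristic

`ρ : K →* End W` over a field with `2 ≠ 0`. `wt ρ th u` is the weight space of the character `v ↦ (-1) ^ om u v`.
All the weight spaces of the `63` nonzero weights have the same dimension `m`:
`finrank W = finrank (wt 0) + 63 m`, and the space of fixed vectors of an involution of `A` has dimension
`finrank (wt 0) + 31 m`. (helper351)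
-/

set_option autoImplicit false

namespace Cfsg.Agent.H351.SpSix

open Cfsg.Agent.H336.SpSix

/-- the sign of an element of `ZMod 2` -/
def sgn (F : Type*) [Field F] (x : ZMod 2) : F := if x = 0 then 1 else -1

section sgn

variable {F : Type*} [Field F]

theorem sgn_zero : sgn F 0 = 1 := if_pos rfl

theorem sgn_one : sgn F 1 = -1 := if_neg (by decide)

theorem sgn_add (x y : ZMod 2) : sgn F (x + y) = sgn F x * sgn F y := by
  rcases z2 x with rfl | rfl <;> rcases z2 y with rfl | rfl
  · rw [add_zero, sgn_zero, mul_one]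
  · rw [zero_add, sgn_zero, one_mul]
  · rw [add_zero, sgn_zero, mul_one]
  · rw [z2_add_self, sgn_zero, sgn_one]; ring

theorem sgn_mul_self (x : ZMod 2) : sgn F x * sgn F x = 1 := by
  rw [← sgn_add, z2_add_self, sgn_zero]

theorem sum_sgn_zero : ∑ _v : V, sgn F 0 = 64 := by
  rw [Finset.sum_const, sgn_zero, Finset.card_univ, nsmul_eq_mul, mul_one]
  have : Fintype.card V = 64 := by simp [V]
  rw [this]; norm_num

theorem sum_sgn_om {u : V} (hu : u ≠ 0) (h2 : (2 : F) ≠ 0) : ∑ v : V, sgn F (om u v) = 0 := by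
  obtain ⟨c, hc⟩ := exists_om hu
  have h1 : ∑ v : V, sgn F (om u v) = ∑ v : V, sgn F (om u (v + c)) :=
    (Fintype.sum_equiv (Equiv.addRight c) _ _ fun v => rfl).symm
  have h3 : ∑ v : V, sgn F (om u (v + c)) = - ∑ v : V, sgn F (om u v) := by
    rw [← Finset.sum_neg_distrib]
    refine Finset.sum_congr rfl fun v _ => ?_
    rw [om_add_right, sgn_add, hc, sgn_one]; ring
  rw [h3] at h1
  have h4 : (2 : F) * ∑ v : V, sgn F (om u v) = 0 := by linear_combination h1
  exact (mul_eq_zero.1 h4).resolve_left h2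

end sgn

theorem card_V : Fintype.card V = 64 := by simp [V]

/-- half of the vectors are orthogonal to a nonzero vector -/
theorem card_om_zero {v : V} (hv : v ≠ 0) : Fintype.card {u : V // om u v = 0} = 32 := by
  obtain ⟨c, hc⟩ := exists_om hv
  have h1 : Fintype.card {u : V // om u v = 0} = Fintype.card {u : V // ¬ om u v = 0} := by
    refine Fintype.card_congr
      { toFun := fun u => ⟨u.1 + c, ?_⟩, invFun := fun u => ⟨u.1 + c, ?_⟩, left_inv := fun u => ?_,
        right_inv := fun u => ?_ }
    · rw [om_add_left, u.2, om_comm c v, hc]; decide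
    · have := (z2 (om u.1 v)).resolve_left u.2
      rw [om_add_left, this, om_comm c v, hc]; decide
    · exact Subtype.ext (add_add_self _ _)
    · exact Subtype.ext (add_add_self _ _)
  have h2 := Fintype.card_subtype_compl (fun u : V => om u v = 0)
  have h3 : Fintype.card V = 64 := by simp [V]
  have h4 : Fintype.card {u : V // om u v = 0} ≤ Fintype.card V := Fintype.card_subtype_le _
  omega

section wt

variable {F : Type*} [Field F] {W : Type*} [AddCommGroup W] [Module F W]
  {K : Type*} [Group K] (ρ : K →* Module.End F W) (th : V → K)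

/-- the weight space of the character `v ↦ (-1) ^ om u v` -/
def wt (u : V) : Submodule F W where
  carrier := {w | ∀ v, ρ (th v) w = sgn F (om u v) • w}
  add_mem' := by
    intro a b ha hb v
    rw [map_add, ha v, hb v, smul_add]
  zero_mem' := by intro v; rw [map_zero, smul_zero]
  smul_mem' := by
    intro c a ha v
    rw [map_smul, ha v, smul_comm]

variable {ρ th}

theorem mem_wt {u : V} {w : W} : w ∈ wt ρ th u ↔ ∀ v, ρ (th v) w = sgn F (om u v) • w := Iff.rfl

variable (ρ th)

/-- the projection onto a weight space -/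
noncomputable def pr (u : V) : W →ₗ[F] W := (64 : F)⁻¹ • ∑ v : V, sgn F (om u v) • ρ (th v)

theorem pr_apply (u : V) (w : W) : pr ρ th u w = (64 : F)⁻¹ • ∑ v : V, sgn F (om u v) • ρ (th v) w := by
  simp only [pr, LinearMap.smul_apply, LinearMap.sum_apply]

/-- the fixed vectors of an element of `A` -/
def fx (v : V) : Submodule F W where
  carrier := {w | ρ (th v) w = w}
  add_mem' := by
    intro a b (ha : ρ (th v) a = a) (hb : ρ (th v) b = b)
    show ρ (th v) (a + b) = a + b
    rw [map_add, ha, hb]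
  zero_mem' := map_zero _
  smul_mem' := by
    intro c a (ha : ρ (th v) a = a)
    show ρ (th v) (c • a) = c • a
    rw [map_smul, ha]

variable {ρ th}

theorem mem_fx {v : V} {w : W} : w ∈ fx ρ th v ↔ ρ (th v) w = w := Iff.rfl

theorem wt_le_fx {u v : V} (h : om u v = 0) : wt ρ th u ≤ fx ρ th v := by
  intro w hw
  rw [mem_fx, hw v, h, sgn_zero, one_smul]

theorem sixty_four_ne (h2 : (2 : F) ≠ 0) : (64 : F) ≠ 0 := by
  have : (64 : F) = 2 ^ 6 := by norm_num
  rw [this]; exact pow_ne_zero _ h2

variable {O K0 : Subgroup K} (h : Sit th O K0)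

include h in
theorem pr_mem (u : V) (w : W) : pr ρ th u w ∈ wt ρ th u := by
  intro v'
  rw [pr_apply, map_smul, map_sum, smul_comm]
  congr 1
  have h1 : ∀ v, ρ (th v') (sgn F (om u v) • ρ (th v) w) = sgn F (om u v) • ρ (th (v' + v)) w := by
    intro v
    rw [map_smul, h.add, map_mul, Module.End.mul_apply]
  rw [Finset.sum_congr rfl fun v _ => h1 v, Finset.smul_sum]
  refine Fintype.sum_equiv (Equiv.addLeft v') _ _ fun v => ?_
  rw [Equiv.coe_addLeft, om_add_right, sgn_add, smul_smul, ← mul_assoc, sgn_mul_self, one_mul]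

include h in
theorem sum_pr (h2 : (2 : F) ≠ 0) (w : W) : ∑ u : V, pr ρ th u w = w := by
  simp only [pr_apply]
  rw [← Finset.smul_sum, Finset.sum_comm]
  have h1 : ∀ v : V, ∑ u : V, sgn F (om u v) • ρ (th v) w = if v = 0 then (64 : F) • w else 0 := by
    intro v
    rw [← Finset.sum_smul]
    by_cases hv : v = 0
    · subst hv
      rw [if_pos rfl, h.zero, map_one, Module.End.one_apply]
      have : ∑ u : V, sgn F (om u 0) = 64 := by
        rw [← sum_sgn_zero (F := F)]
        exact Finset.sum_congr rfl fun u _ => by rw [om_zero_right]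
      rw [this]
    · rw [if_neg hv]
      have : ∑ u : V, sgn F (om u v) = 0 := by
        rw [← sum_sgn_om hv h2]
        exact Finset.sum_congr rfl fun u _ => by rw [om_comm]
      rw [this, zero_smul]
  rw [Finset.sum_congr rfl fun v _ => h1 v, Finset.sum_ite_eq' Finset.univ (0 : V), if_pos (Finset.mem_univ _),
    smul_smul, inv_mul_cancel₀ (sixty_four_ne h2), one_smul]

theorem pr_self (h2 : (2 : F) ≠ 0) {u : V} {w : W} (hw : w ∈ wt ρ th u) : pr ρ th u w = w := by
  rw [pr_apply]
  have h1 : ∀ v : V, sgn F (om u v) • ρ (th v) w = sgn F 0 • w := by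
    intro v
    rw [hw v, smul_smul, sgn_mul_self, sgn_zero]
  rw [Finset.sum_congr rfl fun v _ => h1 v, ← Finset.sum_smul, sum_sgn_zero, smul_smul,
    inv_mul_cancel₀ (sixty_four_ne h2), one_smul]

theorem pr_ne (h2 : (2 : F) ≠ 0) {u u' : V} (hu : u ≠ u') {w : W} (hw : w ∈ wt ρ th u') : pr ρ th u w = 0 := by
  rw [pr_apply]
  have h1 : ∀ v : V, sgn F (om u v) • ρ (th v) w = sgn F (om (u + u') v) • w := by
    intro v
    rw [hw v, smul_smul, ← sgn_add, om_add_left]
  rw [Finset.sum_congr rfl fun v _ => h1 v, ← Finset.sum_smul,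
    sum_sgn_om (fun h => hu ((add_eq_zero_iff _ _).1 h)) h2, zero_smul, smul_zero]

include h in
/-- the decomposition into weight spaces -/
theorem sys (h2 : (2 : F) ≠ 0) : Proj.Sys (wt ρ th) (pr ρ th) :=
  ⟨fun u w => pr_mem h u w, fun w => sum_pr h h2 w, fun _ _ hw => pr_self h2 hw, fun _ _ hu _ hw => pr_ne h2 hu hw⟩

include h in
theorem pr_fx (h2 : (2 : F) ≠ 0) {u v : V} (huv : om u v ≠ 0) {w : W} (hw : w ∈ fx ρ th v) : pr ρ th u w = 0 := by
  have h1 : om u v = 1 := (z2 _).resolve_left huv
  have h3 : ρ (th v) (pr ρ th u w) = sgn F (om u v) • pr ρ th u w := pr_mem h u w v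
  have h4 : ρ (th v) (pr ρ th u w) = pr ρ th u w := by
    rw [pr_apply, map_smul, map_sum]
    congr 1
    refine Finset.sum_congr rfl fun v' _ => ?_
    rw [map_smul, ← Module.End.mul_apply, ← map_mul, h.comm, map_mul, Module.End.mul_apply, mem_fx.1 hw]
  rw [h4, h1, sgn_one, neg_one_smul] at h3
  have h5 : (2 : F) • pr ρ th u w = 0 := by
    rw [two_smul]
    nth_rw 1 [h3]
    rw [neg_add_cancel]
  exact (smul_eq_zero.1 h5).resolve_left h2

include h in
theorem mem_fx_iff (h2 : (2 : F) ≠ 0) (v : V) (w : W) : w ∈ fx ρ th v ↔ ∀ u, ¬ om u v = 0 → pr ρ th u w = 0 := by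
  constructor
  · intro hw u hu
    exact pr_fx h h2 hu hw
  · intro hw
    rw [← sum_pr (ρ := ρ) h h2 w]
    refine Submodule.sum_mem _ fun u _ => ?_
    by_cases hu : om u v = 0
    · exact wt_le_fx hu (pr_mem h u w)
    · rw [hw u hu]; exact Submodule.zero_mem _

/-- an element of the normaliser permutes the weight spaces -/
theorem map_wt {k : K} {g : V ≃+ V} (hg : Isom g) (hk : ∀ v, k * th v * k⁻¹ = th (g v)) {u : V} {w : W}
    (hw : w ∈ wt ρ th u) : ρ k w ∈ wt ρ th (g u) := by
  intro v
  have h1 : th v * k = k * th (g.symm v) := by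
    have := hk (g.symm v)
    rw [AddEquiv.apply_symm_apply] at this
    rw [← this]; group
  rw [← Module.End.mul_apply, ← map_mul, h1, map_mul, Module.End.mul_apply, hw, map_smul]
  congr 2
  rw [← hg u, AddEquiv.apply_symm_apply]

include h in
theorem finrank_wt_le [FiniteDimensional F W] {u v : V} (hu : u ≠ 0) (hv : v ≠ 0) :
    Module.finrank F (wt ρ th u) ≤ Module.finrank F (wt ρ th v) := by
  obtain ⟨g, hg, hgu⟩ := exists_isom hu hv
  obtain ⟨k, -, hk⟩ := h.full g hg
  have hmap : ∀ w ∈ wt ρ th u, ρ k w ∈ wt ρ th v := fun w hw => by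
    have := map_wt (ρ := ρ) hg hk hw
    rwa [hgu] at this
  refine LinearMap.finrank_le_finrank_of_injective (f := (ρ k).restrict hmap) ?_
  intro a b hab
  apply Subtype.ext
  have h1 : ρ k a.1 = ρ k b.1 := congrArg Subtype.val hab
  have h3 : ρ k⁻¹ (ρ k a.1) = ρ k⁻¹ (ρ k b.1) := congrArg _ h1
  rwa [← Module.End.mul_apply, ← Module.End.mul_apply, ← map_mul, inv_mul_cancel, map_one, Module.End.one_apply,
    Module.End.one_apply] at h3

include h in
theorem finrank_wt_eq [FiniteDimensional F W] {u v : V} (hu : u ≠ 0) (hv : v ≠ 0) :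
    Module.finrank F (wt ρ th u) = Module.finrank F (wt ρ th v) :=
  le_antisymm (finrank_wt_le h hu hv) (finrank_wt_le h hv hu)

include h in
/-- **the dimension of the module** -/
theorem finrank_eq [FiniteDimensional F W] (h2 : (2 : F) ≠ 0) {u : V} (hu : u ≠ 0) :
    Module.finrank F W = Module.finrank F (wt ρ th 0) + 63 * Module.finrank F (wt ρ th u) := by
  rw [(sys (ρ := ρ) h h2).finrank_top, Proj.sum_eq_of_const (fun v => Module.finrank F (wt ρ th v)) 0
    (Module.finrank F (wt ρ th u)) (fun v hv => finrank_wt_eq h hv hu), card_V]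

include h in
/-- **the dimension of the fixed space of an involution of `A`** -/
theorem finrank_fx [FiniteDimensional F W] (h2 : (2 : F) ≠ 0) {u v : V} (hu : u ≠ 0) (hv : v ≠ 0) :
    Module.finrank F (fx ρ th v) = Module.finrank F (wt ρ th 0) + 31 * Module.finrank F (wt ρ th u) := by
  have h0 : om 0 v = 0 := om_zero_left v
  have h1 := card_om_zero hv
  rw [(sys (ρ := ρ) h h2).finrank (fun u => om u v = 0) (fun w => mem_fx_iff h h2 v w),
    Proj.sum_eq_of_const (fun x : {u : V // om u v = 0} => Module.finrank F (wt ρ th x.1)) ⟨0, h0⟩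
    (Module.finrank F (wt ρ th u)) (fun x hx => finrank_wt_eq h (fun hh => hx (Subtype.ext hh)) hu), h1]

include h in
/-- the nonzero weights occur if `A` acts non-trivially -/
theorem finrank_pos [FiniteDimensional F W] (h2 : (2 : F) ≠ 0) {v : V} (hv : ρ (th v) ≠ 1) {u : V} (hu : u ≠ 0) :
    0 < Module.finrank F (wt ρ th u) := by
  by_contra hc
  have h0 : Module.finrank F (wt ρ th u) = 0 := Nat.eq_zero_of_not_pos hc
  apply hv
  ext w
  rw [Module.End.one_apply]
  have h1 : w ∈ wt ρ th 0 := by
    rw [← sum_pr (ρ := ρ) h h2 w]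
    refine Submodule.sum_mem _ fun x _ => ?_
    by_cases hx : x = 0
    · subst hx; exact pr_mem h 0 w
    · have h3 : Module.finrank F (wt ρ th x) = 0 := (finrank_wt_eq h hx hu).trans h0
      have h4 : wt ρ th x = ⊥ := Submodule.finrank_eq_zero.1 h3
      have h5 := pr_mem (ρ := ρ) h x w
      rw [h4, Submodule.mem_bot] at h5
      rw [h5]; exact Submodule.zero_mem _
  rw [h1 v, om_zero_left, sgn_zero, one_smul]

end wt

end Cfsg.Agent.H351.SpSix
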